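import Cfsg.Agent.F22C.Inv2

/-!
# The centraliser of a product of two commuting members stabilises the component
-/

set_option autoImplicit false
set_option linter.unusedSectionVars false
set_option linter.unusedSimpArgs false

namespace Cfsg.Agent.F22C

open Finset Cfsg.Agent.Uni

open Cfsg.Agent.ThreeTransp (perp perp_conj_iff commute_conj_iff)

open Cfsg.Agent.FW (DF NF mem_DF mem_NF mem_NF' nc_iff)

variable {G : Type*} [Group G] {D : Set G} [Finite G]

/-- the elements inverted -/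
def Ivt (x y n : G) : Prop := Odd (orderOf n) ∧ Commute n (x * y) ∧ x * n * x⁻¹ = n⁻¹

section loc

variable (h : Loc D)
include h

theorem lemE {x y n : G} {N : Subgroup G} (hx : x ∈ D) (hy : y ∈ perp D x) (hN : IsN x y N) (hn : n ∈ N)
    (hnS : n ∈ St D x) : n = 1 := by
  have hb : n * x * n⁻¹ ∈ Sig D x := (mem_St h hx).1 hnS
  have hxt : Commute x (x * y) := (Commute.refl x).mul_right hy.2.2
  have hnt := hN.le n hn
  have hbt : Commute (n * x * n⁻¹) (x * y) := (hnt.mul_left hxt).mul_left hnt.inv_left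
  have h1 := (comm_of_comm_prod h hx hy hb hbt).1
  exact lemC h hx hy hN hn (commute_of_conj (lemA h hN hn hx hxt h1))

theorem lemF {x y n c : G} {N : Subgroup G} (hx : x ∈ D) (hy : y ∈ perp D x) (hN : IsN x y N) (hn : n ∈ N)
    (hc : c ∈ Sig D x) (hct : Commute c (x * y)) : c * n * c⁻¹ = n⁻¹ := by
  have hcc := h.sq c hc.1
  let φ : ↥N →* ↥N := MonoidHom.mk' (fun m => ⟨c * m * c⁻¹, hN.norm c hct m m.2⟩) (fun a b => Subtype.ext (by
    change c * ((a : G) * (b : G)) * c⁻¹ = (c * a * c⁻¹) * (c * b * c⁻¹)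
    group))
  have hφ : ∀ m : ↥N, ((φ m : ↥N) : G) = c * m * c⁻¹ := fun _ => rfl
  have h1 : MonoidHom.FixedPointFree φ := by
    intro m hm
    have h2 : c * (m : G) * c⁻¹ = m := congrArg Subtype.val hm
    have h3 : Commute (m : G) c := (commute_of_conj h2).symm
    have h4 : (m : G) ∈ St D x := by
      rw [← St_eq h hx hc]
      exact cent_le_St h hc.1 (Subgroup.mem_centralizer_singleton_iff.2 h3)
    exact Subtype.ext (lemE h hx hy hN m.2 h4)
  have h2 : Function.Involutive φ := by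
    intro m
    apply Subtype.ext
    rw [hφ, hφ]
    calc c * (c * (m : G) * c⁻¹) * c⁻¹ = (c * c) * m * (c * c)⁻¹ := by group
      _ = m := by rw [hcc]; group
  have h3 := congrFun (h1.coe_eq_inv_of_involutive h2) ⟨n, hn⟩
  exact congrArg Subtype.val h3

end loc

variable (h : LocP D)
include h

theorem lemG {x y n c : G} (hx : x ∈ D) (hy : y ∈ perp D x) (hn : Ivt x y n) (hc : c ∈ perp D x) (hcy : Commute y c) :
    Ivt x c n ∧ c * n * c⁻¹ = n⁻¹ := by
  obtain ⟨N, hN⟩ := exists_N h hx hy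
  obtain ⟨ho, hnt, hxn⟩ := hn
  have hxt : Commute x (x * y) := (Commute.refl x).mul_right hy.2.2
  have hxx := h.sq x hx
  have hyy := h.sq y hy.1
  have htt : (x * y) * (x * y) = 1 := by
    calc (x * y) * (x * y) = x * (y * x) * y := by group
      _ = x * (x * y) * y := by rw [hy.2.2.eq]
      _ = (x * x) * (y * y) := by group
      _ = 1 := by rw [hxx, hyy, one_mul]
  have ht1 : x * y ≠ 1 := by
    intro e
    have h3 := eq_inv_of_mul_eq_one_right e
    rw [h.inv hx] at h3
    exact hy.2.1 h3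
  have hnN : n ∈ N := by
    rcases hN.comm n hnt with h1 | h1
    · rw [hxn] at h1
      have h2 : (n * n)⁻¹ ∈ N := by rw [mul_inv_rev]; exact h1
      exact mem_of_sq_mem ho (inv_mem_iff.1 h2)
    · exfalso
      rw [hxn] at h1
      have h2 : Odd (orderOf (n⁻¹ * n⁻¹ * (x * y))) := odd_orderOf_of_mem hN.odd h1
      set m := orderOf n with hm
      have h3 : Commute (n⁻¹ * n⁻¹) (x * y) := hnt.inv_left.mul_left hnt.inv_left
      obtain ⟨j, hj⟩ := ho
      have h4 : (n⁻¹ * n⁻¹ * (x * y)) ^ m = x * y := by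
        rw [h3.mul_pow, (Commute.refl n⁻¹).mul_pow, inv_pow, hm, pow_orderOf_eq_one, inv_one, one_mul, one_mul, ← hm, hj,
          pow_succ, pow_mul, sq, htt, one_pow, one_mul]
      have h5 : x * y ∈ N := by
        rw [← h4]; exact pow_mem h1 m
      exact ht1 (odd_eq_one hN.odd h5 htt)
  by_cases hcyE : c = y
  · rw [hcyE]
    refine ⟨⟨ho, hnt, hxn⟩, lemF h.toLoc hx hy hN hnN (perp_sub_Sig hy) (hy.2.2.symm.mul_right (Commute.refl y))⟩
  · have hct : Commute c (x * y) := hc.2.2.symm.mul_right hcy.symm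
    have h6 := lemF h.toLoc hx hy hN hnN (perp_sub_Sig hc) hct
    refine ⟨⟨ho, ?_, hxn⟩, h6⟩
    have h7 : (x * c) * n * (x * c)⁻¹ = n := by
      calc (x * c) * n * (x * c)⁻¹ = x * (c * n * c⁻¹) * x⁻¹ := by group
        _ = (x * n * x⁻¹)⁻¹ := by rw [h6]; group
        _ = n := by rw [hxn, inv_inv]
    exact (commute_of_conj h7).symm

theorem lemH {x y n : G} (hx : x ∈ D) (hy : y ∈ perp D x) (hn : Ivt x y n) : n = 1 := by
  classical
  have hinv : ∀ z ∈ perp D x, z * n * z⁻¹ = n⁻¹ := by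
    intro z hz
    by_cases hzy : Commute y z
    · exact (lemG h hx hy hn hz hzy).2
    · have hyz : y ≠ z := by rintro rfl; exact hzy (Commute.refl _)
      have hp := h.toLoc.par
      have h1 := hp.m1 x (mem_DF.2 hx) y (mem_NF.2 hy) z (mem_NF.2 hz) hyz (fun hh => hzy (mem_NF.1 hh).2.2)
      obtain ⟨c, hc⟩ := card_pos.1 (by rw [h1]; norm_num : 0 < (NF D x ∩ NF D y ∩ NF D z).card)
      rw [mem_inter, mem_inter, mem_NF, mem_NF, mem_NF] at hc
      have h2 := (lemG h hx hy hn hc.1.1 hc.1.2.2.2).1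
      exact (lemG h hx hc.1.1 h2 hz hc.2.2.2.symm).2
  have hgen : ∀ g ∈ Subgroup.closure (perp D x), g * n * g⁻¹ = n ∨ g * n * g⁻¹ = n⁻¹ := by
    intro g hg
    induction hg using Subgroup.closure_induction with
    | mem y hy => right; exact hinv y hy
    | one => left; group
    | mul a b _ _ ha hb =>
      have e : a * b * n * (a * b)⁻¹ = a * (b * n * b⁻¹) * a⁻¹ := by group
      rw [e]
      rcases hb with hb | hb <;> rw [hb]
      · exact ha
      · have e2 : a * n⁻¹ * a⁻¹ = (a * n * a⁻¹)⁻¹ := by group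
        rw [e2]
        rcases ha with ha | ha <;> rw [ha]
        · right; rfl
        · left; group
    | inv a _ ha =>
      rw [inv_inv]
      rcases ha with ha | ha
      · left
        calc a⁻¹ * n * a = a⁻¹ * (a * n * a⁻¹) * a := by rw [ha]
          _ = n := by group
      · right
        have : (a * n * a⁻¹)⁻¹ = n := by rw [ha, inv_inv]
        calc a⁻¹ * n * a = a⁻¹ * (a * n * a⁻¹)⁻¹ * a := by rw [this]
          _ = n⁻¹ := by group
  have hx1 : ∀ g ∈ Subgroup.centralizer ({x} : Set G), g * n * g⁻¹ = n ∨ g * n * g⁻¹ = n⁻¹ := by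
    rw [h.cent x hx]; exact hgen
  have hcom : commutator ↥(Subgroup.centralizer ({x} : Set G)) ≤
      (Subgroup.centralizer ({n} : Set G)).subgroupOf (Subgroup.centralizer ({x} : Set G)) := by
    rw [commutator_def, Subgroup.commutator_le]
    rintro a - b -
    rw [Subgroup.mem_subgroupOf, Subgroup.mem_centralizer_singleton_iff]
    have ha := hx1 a a.2
    have hb := hx1 b b.2
    have hai := hx1 (a⁻¹ : ↥(Subgroup.centralizer ({x} : Set G))) (a⁻¹ : ↥(Subgroup.centralizer ({x} : Set G))).2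
    have key : ((a : G) * b * (a : G)⁻¹ * (b : G)⁻¹) * n * ((a : G) * b * (a : G)⁻¹ * (b : G)⁻¹)⁻¹ = n := by
      have hinv' : ∀ g : G, g * n⁻¹ * g⁻¹ = (g * n * g⁻¹)⁻¹ := fun g => by group
      have hba : ∀ g : G, g * n * g⁻¹ = n → g⁻¹ * n * g = n := fun g hg => by
        calc g⁻¹ * n * g = g⁻¹ * (g * n * g⁻¹) * g := by rw [hg]
          _ = n := by group
      have hba' : ∀ g : G, g * n * g⁻¹ = n⁻¹ → g⁻¹ * n * g = n⁻¹ := fun g hg => by
        have : (g * n * g⁻¹)⁻¹ = n := by rw [hg, inv_inv]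
        calc g⁻¹ * n * g = g⁻¹ * (g * n * g⁻¹)⁻¹ * g := by rw [this]
          _ = n⁻¹ := by group
      have e : ((a : G) * b * (a : G)⁻¹ * (b : G)⁻¹) * n * ((a : G) * b * (a : G)⁻¹ * (b : G)⁻¹)⁻¹ =
        (a : G) * ((b : G) * ((a : G)⁻¹ * ((b : G)⁻¹ * n * b) * a) * (b : G)⁻¹) * (a : G)⁻¹ := by group
      rw [e]
      have hinv'' : ∀ g : G, g⁻¹ * n⁻¹ * g = (g⁻¹ * n * g)⁻¹ := fun g => by group
      rcases ha with ha | ha <;> rcases hb with hb | hb
      · rw [hba _ hb, hba _ ha, hb, ha]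
      · rw [hba' _ hb, hinv'', hba _ ha, hinv', hb, inv_inv, ha]
      · rw [hba _ hb, hba' _ ha, hinv', hb, hinv', ha, inv_inv]
      · rw [hba' _ hb, hinv'', hba' _ ha, inv_inv, hb, hinv', ha, inv_inv]
    exact commute_of_conj key
  rw [h.perf x hx] at hcom
  have h5 := hcom (Subgroup.mem_top (⟨x, Subgroup.mem_centralizer_singleton_iff.2 rfl⟩ :
    ↥(Subgroup.centralizer ({x} : Set G))))
  rw [Subgroup.mem_subgroupOf, Subgroup.mem_centralizer_singleton_iff] at h5
  have h6 : x * n = n * x := h5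
  have h7 := hn.2.2
  rw [h6, mul_inv_cancel_right] at h7
  apply eq_one_of_sq hn.1
  nth_rewrite 1 [h7]
  exact inv_mul_cancel n

/-- **The centraliser of a product of two commuting members stabilises the component.** -/
theorem cent_prod_le {x y g : G} (hx : x ∈ D) (hy : y ∈ perp D x) (hg : Commute g (x * y)) : g ∈ St D x := by
  obtain ⟨N, hN⟩ := exists_N h hx hy
  have hxt : Commute x (x * y) := (Commute.refl x).mul_right hy.2.2
  have hN1 : ∀ n ∈ N, n = 1 := by
    intro n hn
    apply lemH h hx hy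
    exact ⟨odd_orderOf_of_mem hN.odd hn, hN.le n hn, lemF h.toLoc hx hy hN hn (self_mem_Sig hx) hxt⟩
  have hxx := h.sq x hx
  have hyy := h.sq y hy.1
  rw [mem_St h.toLoc hx]
  rcases hN.comm g hg with h1 | h1
  · have h2 := hN1 _ h1
    have h3 : g * x * g⁻¹ = x := by
      have h4 : x * g * x⁻¹ = g := mul_inv_eq_one.1 h2
      have h5 : x * g = g * x := mul_inv_eq_iff_eq_mul.1 h4
      rw [← h5, mul_inv_cancel_right]
    rw [h3]; exact self_mem_Sig hx
  · have h2 := hN1 _ h1
    have h3 : g * x * g⁻¹ = y := by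
      have h4 : x * g * x⁻¹ * g⁻¹ = (x * y)⁻¹ := eq_inv_of_mul_eq_one_left h2
      rw [mul_inv_rev, h.inv hx, h.inv hy.1, ← hy.2.2.eq] at h4
      have h5 : g * x * g⁻¹ = y := by
        have : x * (g * x * g⁻¹) = x * y := by rw [← h4]; group
        exact mul_left_cancel this
      exact h5
    rw [h3]; exact perp_sub_Sig hy

end Cfsg.Agent.F22C
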